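import Cfsg.Agent.Walter.Main
import Cfsg.Agent.Walter.Consumers.Types
import Cfsg.Agent.GWDihedral.Main
import Cfsg.Agent.GWDihedral.Consumers.QGroup.Quotient
import Cfsg.Agent.Classical.Misc.SmallPSL
import Cfsg.Agent.PGroups.CyclicMaximal
import Cfsg.Prelude.Def_Sporadic
import Cfsg.Prelude.Def_Exceptional

/-!
Simple groups with abelian Sylow 2-subgroups and with Sylow 2-subgroups of order eight, from the determination
of the groups of Janko–Ree type (rows 506 and 993).
-/

set_option autoImplicit false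
set_option linter.unusedSectionVars false
set_option linter.style.haveILetI false

namespace Cfsg.Lib.SylowEight

open Subgroup

universe u

/-- The determination of the orders of the groups of Janko–Ree type. -/
def JRProp : Prop :=
  ∀ (X : Type u) [Group X] [Finite X] [IsSimpleGroup X], ¬ IsMulCommutative X → Walter.AbTwo X →
    Walter.IsJR X → Cfsg.IsRee X ∨ Cfsg.IsJ1 X

variable {G : Type u} [Group G] [Finite G]

theorem abTwo_of_sylow (S : Sylow 2 G) (hS : IsMulCommutative (S : Subgroup G)) : Walter.AbTwo G := by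
  haveI : Fact (Nat.Prime 2) := ⟨Nat.prime_two⟩
  intro U x hx y hy
  haveI := hS
  exact congrArg Subtype.val ((U.equiv S).injective
    (show U.equiv S (⟨x, hx⟩ * ⟨y, hy⟩) = U.equiv S (⟨y, hy⟩ * ⟨x, hx⟩) by rw [map_mul, map_mul]; exact mul_comm' _ _))

/-- The conclusion of row 506. -/
theorem abelian_main (hJR : JRProp.{u}) [IsSimpleGroup G] (hG : ¬ IsMulCommutative G) (S : Sylow 2 G)
    (hS : IsMulCommutative (S : Subgroup G)) :
    (∃ a : ℕ, 2 ≤ a ∧ ∃ (F : Type) (_ : Field F) (_ : Fintype F), Fintype.card F = 2 ^ a ∧ Nonempty (G ≃* Matrix.ProjectiveSpecialLinearGroup (Fin 2) F)) ∨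
      (∃ (F : Type) (_ : Field F) (_ : Fintype F), (Fintype.card F % 8 = 3 ∨ Fintype.card F % 8 = 5) ∧ Nonempty (G ≃* Matrix.ProjectiveSpecialLinearGroup (Fin 2) F)) ∨
      Cfsg.IsRee G ∨ Cfsg.IsJ1 G := by
  have hab := abTwo_of_sylow S hS
  rcases Walter.walterProp G hG hab with ⟨F, i, j, ⟨n, hn, hF⟩, e⟩ | ⟨F, i, j, h8, -, e⟩ | h
  · exact Or.inl ⟨n, hn, F, i, j, hF, e⟩
  · exact Or.inr (Or.inl ⟨F, i, j, h8, e⟩)
  · exact Or.inr (Or.inr (hJR G hG hab h))

/-- The nonabelian groups of order eight. -/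
theorem eight_cases {R : Type u} [Group R] [Finite R] (h8 : Nat.card R = 8) (hna : ¬ IsMulCommutative R) :
    Nonempty (R ≃* DihedralGroup 4) ∨ Nonempty (R ≃* QuaternionGroup 2) := by
  haveI : Fact (Nat.Prime 2) := ⟨Nat.prime_two⟩
  have hne : ∃ x y : R, x * y ≠ y * x := by
    by_contra! h
    exact hna ⟨⟨h⟩⟩
  obtain ⟨g, hg⟩ : ∃ g : R, g * g ≠ 1 := by
    by_contra! hh
    obtain ⟨a, b, hab⟩ := hne
    apply hab
    rw [← inv_eq_of_mul_eq_one_right (hh (a * b)), mul_inv_rev, inv_eq_of_mul_eq_one_right (hh b),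
      inv_eq_of_mul_eq_one_right (hh a)]
  have hord : orderOf g = 4 := by
    have hd : orderOf g ∣ 2 ^ 3 := by rw [show (2 : ℕ) ^ 3 = Nat.card R by rw [h8]; norm_num]; exact orderOf_dvd_natCard g
    obtain ⟨k, hk, hke⟩ := (Nat.dvd_prime_pow Nat.prime_two).1 hd
    have h1 : orderOf g ≠ 8 := fun e => by
      obtain ⟨a, b, hab⟩ := hne
      have htop : zpowers g = ⊤ := eq_top_of_card_eq _ (by rw [Nat.card_zpowers, e, h8])
      obtain ⟨i, rfl⟩ := mem_zpowers_iff.1 (htop ▸ mem_top a)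
      obtain ⟨j, rfl⟩ := mem_zpowers_iff.1 (htop ▸ mem_top b)
      exact hab (by rw [← zpow_add, ← zpow_add, add_comm])
    have h2 : ¬ orderOf g ∣ 2 := fun e => hg (by rw [← pow_two]; exact orderOf_dvd_iff_pow_eq_one.1 e)
    interval_cases k <;> simp_all
  obtain ⟨a, b, -, hc⟩ := CyclicMax.classify 3 le_rfl (S := R) (by rw [h8]; norm_num) (zpowers g)
    (by infer_instance) (by
      have := (zpowers g).card_mul_index
      rw [Nat.card_zpowers, hord, h8] at this
      omega) hne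
  rcases hc with hd | hq | ⟨h4, -⟩ | ⟨h4, -⟩
  · exact Or.inl (by simpa using CyclicMax.toDihedral hd (by norm_num))
  · exact Or.inr (by simpa using CyclicMax.toQuaternion hq le_rfl)
  · omega
  · omega

/-- The two-part of an order. -/
theorem eight_exact (T : Sylow 2 G) (hT : Nat.card (T : Subgroup G) = 8) : 8 ∣ Nat.card G ∧ ¬ 16 ∣ Nat.card G := by
  haveI : Fact (Nat.Prime 2) := ⟨Nat.prime_two⟩
  refine ⟨hT ▸ card_subgroup_dvd_card _, fun h16 => ?_⟩
  rw [← (T : Subgroup G).card_mul_index, hT] at h16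
  exact T.not_dvd_index (Nat.dvd_of_mul_dvd_mul_left (by norm_num : 0 < 8) (show 8 * 2 ∣ _ from h16))

theorem card_psl_odd {F : Type} [Field F] [Fintype F] (hodd : Odd (Fintype.card F))
    (e : G ≃* Matrix.ProjectiveSpecialLinearGroup (Fin 2) F) :
    2 * Nat.card G = Fintype.card F * (Fintype.card F ^ 2 - 1) := by
  obtain ⟨q, hq⟩ : ∃ q, Fintype.card F = q := ⟨_, rfl⟩
  have hc := Cfsg.Lib.Classical.SmallPSL.card_psl hq
  have h1 := Fintype.one_lt_card (α := F)
  rw [hq] at hodd h1 ⊢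
  rw [← Nat.card_congr e.toEquiv, Nat.gcd_eq_left (by obtain ⟨k, rfl⟩ := hodd; exact ⟨k, by omega⟩)] at hc
  exact hc

/-- The conclusion of row 993. -/
theorem eight_main (hJR : JRProp.{u}) [IsSimpleGroup G] (hG : ¬ IsMulCommutative G) (T : Sylow 2 G)
    (hT : Nat.card (T : Subgroup G) = 8) :
    (∃ (F : Type) (_ : Field F) (_ : Fintype F), Fintype.card F = 8 ∧ Nonempty (G ≃* Matrix.ProjectiveSpecialLinearGroup (Fin 2) F)) ∨
      (∃ (F : Type) (_ : Field F) (_ : Fintype F), (Fintype.card F % 16 = 7 ∨ Fintype.card F % 16 = 9) ∧ Nonempty (G ≃* Matrix.ProjectiveSpecialLinearGroup (Fin 2) F)) ∨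
      Nonempty (G ≃* alternatingGroup (Fin 7)) ∨ Cfsg.IsJ1 G ∨ Cfsg.IsRee G := by
  haveI : Fact (Nat.Prime 2) := ⟨Nat.prime_two⟩
  obtain ⟨h8, h16⟩ := eight_exact T hT
  by_cases hab : IsMulCommutative (T : Subgroup G)
  · rcases Walter.walterProp G hG (abTwo_of_sylow T hab) with
      ⟨F, i, j, ⟨n, hn, hF⟩, ⟨e⟩⟩ | ⟨F, i, j, hm, h5, ⟨e⟩⟩ | h
    · refine Or.inl ⟨F, i, j, ?_, ⟨e⟩⟩
      have hc := Cfsg.Lib.Classical.SmallPSL.card_psl hF
      have h1 : 1 ≤ 2 ^ n := Nat.one_le_two_pow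
      have hco : Nat.Coprime 2 ((2 ^ n) ^ 2 - 1) := by
        refine (Nat.prime_two.coprime_iff_not_dvd).2 fun hd => ?_
        have h2n : 2 ∣ (2 ^ n) ^ 2 := dvd_pow (dvd_pow_self 2 (by omega)) two_ne_zero
        have := Nat.one_le_pow 2 (2 ^ n) (by omega)
        omega
      rw [show Nat.gcd 2 (2 ^ n - 1) = 1 by
        refine (Nat.prime_two.coprime_iff_not_dvd).2 fun hd => ?_
        have : 2 ∣ 2 ^ n := dvd_pow_self 2 (by omega)
        omega, one_mul, ← Nat.card_congr e.toEquiv] at hc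
      rw [hF]
      rcases lt_trichotomy n 3 with h | h | h
      · exfalso
        obtain rfl : n = 2 := by omega
        rw [hc] at h8
        norm_num at h8
      · rw [h]; norm_num
      · refine absurd ?_ h16
        rw [hc]
        exact Dvd.dvd.mul_right (Dvd.dvd.trans (by norm_num) (Nat.pow_dvd_pow 2 (show 4 ≤ n by omega))) _
    · exfalso
      have hodd : Odd (Fintype.card F) := Nat.odd_iff.2 (by omega)
      have hc := card_psl_odd hodd e
      obtain ⟨c, hc8⟩ := h8
      have h2 : 16 ∣ Fintype.card F ^ 2 - 1 :=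
        (Nat.Coprime.dvd_of_dvd_mul_left (show Nat.Coprime 16 (Fintype.card F) from
          Nat.Coprime.pow_left 4 ((Nat.prime_two.coprime_iff_not_dvd).2 (by omega)) : Nat.Coprime 16 _)
          ⟨c, by rw [← hc, hc8]; ring⟩)
      obtain ⟨k, hk | hk⟩ : ∃ k, Fintype.card F = 8 * k + 3 ∨ Fintype.card F = 8 * k + 5 :=
        ⟨Fintype.card F / 8, by omega⟩
      all_goals
        rw [hk] at h2
        ring_nf at h2
        omega
    · exact Or.inr (Or.inr (Or.inr (hJR G hG (abTwo_of_sylow T hab) h).symm))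
  · rcases eight_cases hT hab with hd | hf
    · rcases GWD.dihedralProp G T 4 (by norm_num) hd with ⟨F, i, j, hodd, h5, ⟨e⟩⟩ | h
      · refine Or.inr (Or.inl ⟨F, i, j, ?_, ⟨e⟩⟩)
        have hc := card_psl_odd hodd e
        obtain ⟨c, hc8⟩ := h8
        have h2 : 16 ∣ Fintype.card F ^ 2 - 1 :=
          (Nat.Coprime.dvd_of_dvd_mul_left (show Nat.Coprime 16 (Fintype.card F) from
            Nat.Coprime.pow_left 4 ((Nat.prime_two.coprime_iff_not_dvd).2 (by
              obtain ⟨m, hm⟩ := hodd; omega)) : Nat.Coprime 16 _)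
            ⟨c, by rw [← hc, hc8]; ring⟩)
        have h3 : ¬ 32 ∣ Fintype.card F ^ 2 - 1 := fun h32 => h16 (by
          obtain ⟨d, hd⟩ := h32
          exact ⟨Fintype.card F * d, Nat.eq_of_mul_eq_mul_left two_pos (by rw [hc, hd]; ring)⟩)
        have hsq : Fintype.card F % 16 * (Fintype.card F % 16) % 16 = 1 := by
          rw [← Nat.mul_mod, ← pow_two]
          have : 1 ≤ Fintype.card F ^ 2 := Nat.one_le_pow _ _ (by omega)
          omega
        have hlt := Nat.mod_lt (Fintype.card F) (show 16 > 0 by norm_num)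
        have hdiv := Nat.div_add_mod (Fintype.card F) 16
        generalize hr : Fintype.card F % 16 = r at hsq hlt hdiv
        interval_cases r <;> first | omega | (refine absurd ?_ h3; rw [← hdiv]; ring_nf; omega)
      · exact Or.inr (Or.inr (Or.inl h))
    · exfalso
      obtain ⟨f⟩ := hf
      have hO : GenDihedral.NoOdd G := fun N hN hodd =>
        hN.eq_bot_or_eq_top.resolve_right fun e => by
          rw [e, card_top] at hodd
          exact hodd.not_two_dvd_nat (dvd_trans (by norm_num) h8)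
      obtain ⟨hZ, -, -⟩ := GWD.quaternion_quot T 0 f hO
      rcases (inferInstance : (center G).Normal).eq_bot_or_eq_top with e | e
      · rw [e, card_bot] at hZ; omega
      · exact hG ⟨⟨fun a b => (mem_center_iff.1 (e ▸ mem_top a : a ∈ center G) b).symm⟩⟩

end Cfsg.Lib.SylowEight
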